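import Cfsg.Agent.H629.CY.Defs
import Cfsg.Agent.H305.RatB.JThree

/-!
# S4829: `J₃`, `p = 3` (helper543)

The character of degree 1615 (integer values, helper305): odd degree prime to 3, and the centralizer of a Sylow
3-subgroup is a 3-group.
-/

set_option autoImplicit false

namespace Cfsg.Agent.H543.CY

open Cfsg Subgroup Cfsg.Agent.Characters.Core Cfsg.Agent.H493.RatB Cfsg.Agent.H305.RatB

universe u

/-- a character of odd degree prime to `p` with rational values, the centralizer of a Sylow `p`-subgroup being a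
`p`-group -/
theorem witOR_of_card {S : Type u} [Group S] [Finite S] {p : ℕ} [hp : Fact p.Prime] {a : ℕ}
    (ha : p ^ a ∣ Nat.card S)
    (hc : ∀ y : S, (orderOf y).Prime → orderOf y ≠ p → ¬ p ^ a ∣ Nat.card (centralizer ({y} : Set S)))
    (θ : IrrCharacter S) (hne : (θ : S → ℂ) ≠ fun _ => 1) (hd : ¬ p ∣ charDegree (θ : S → ℂ))
    (ho : Odd (charDegree (θ : S → ℂ))) (hr : RatV (θ : S → ℂ)) : H629.CY.WitOR p S := by
  intro M hM
  obtain ⟨P⟩ : Nonempty (Sylow p S) := inferInstance
  exact ⟨θ, H684.Principal.mem_of_not_dvd hM P.isPGroup' (isPGroup_centralizer ha hc P) θ hd, hne, hd, ho, hr⟩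

/-- **`J₃`, `p = 3`** -/
theorem witOR_J3 {K : Type u} [Group K] (h : Spor.IsoJ3 K) : H629.CY.WitOR 3 K := by
  have hcK := card_J3 h
  have hfin : Finite K := Nat.finite_of_card_ne_zero (by rw [hcK]; norm_num)
  have hp3 : Fact (Nat.Prime 3) := ⟨Nat.prime_three⟩
  obtain ⟨χ, hd, -, hint⟩ := exists_1615 h
  refine witOR_of_card (a := 2) (by rw [hcK]; norm_num) (fun y hy hy3 => ?_) χ (fun he => ?_) (by rw [hd]; norm_num)
    (by rw [hd]; decide) (RatV.of_int hint)
  · have hdv : orderOf y ∣ 50232960 := by rw [← hcK]; exact orderOf_dvd_natCard y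
    rcases H898.J3Cent.prime_dvd_card hy hdv with h2 | h3 | h5 | h17 | h19
    · rw [((H898.J3Cent.base h).2.2 y h2).2.1]
      norm_num
    · exact absurd h3 hy3
    · obtain ⟨x, hx, hC⟩ := H724.IMJThree.exists_five h
      rw [card_centralizer_eq (by norm_num) (by rw [hcK]; norm_num) h5 hx, hC]
      norm_num
    · rw [(H898.J3Cent.seventeen h h17).1]
      norm_num
    · rw [H898.J3Cent.card_nineteen h h19]
      norm_num
  · rw [he] at hd
    have h1 : charDegree (fun _ : K => (1 : ℂ)) = 1 := Blocks.Basic.charDegree_of_eq (by push_cast; rfl)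
    omega

end Cfsg.Agent.H543.CY
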